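-- Team project PG63 (S3664, helper14): package [EX] (explicit elements of Sz(8)).
import Mathlib
import Cfsg.Agent.Lib.Helper14.PG63.Defs

set_option autoImplicit false

namespace Cfsg.Agent.Lib.Helper63.PG63

open Matrix Cfsg.Agent.Lib.Helper14.PG63

universe u

section
variable {F : Type u} [Field F] [CharP F 2]

lemma ex_two : (2 : F) = 0 := CharTwo.two_eq_zero

lemma ex_predN (b : F) (h8 : b ^ 8 = b) : Pred (N b) := by
  have h2 : (2 : F) = 0 := ex_two
  have h16 : b ^ 16 = b ^ 2 := by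
    calc b ^ 16 = (b ^ 8) ^ 2 := by ring
      _ = b ^ 2 := by rw [h8]
  constructor
  · ext i j
    fin_cases i <;> fin_cases j <;>
      simp [N, J4, Matrix.mul_apply, Fin.sum_univ_four] <;>
      (first | exact CharTwo.add_self_eq_zero (R := F) _ | exact CharTwo.neg_eq (R := F) _)
  · ext i j
    fin_cases i <;> fin_cases j <;>
      simp [N, Cfsg.Lie.star4, Cfsg.Lie.pairOf] <;>
      (first
        | (exact CharTwo.add_self_eq_zero (R := F) _)
        | (exact CharTwo.neg_eq (R := F) _)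
        | (linear_combination (-(b ^ 2)) * h2 - h16))

lemma ex_predJ : Pred (J4 F) := by
  have h2 : (2 : F) = 0 := ex_two
  constructor
  · ext i j
    fin_cases i <;> fin_cases j <;>
      simp [J4, Matrix.mul_apply, Fin.sum_univ_four]
  · ext i j
    fin_cases i <;> fin_cases j <;>
      simp [J4, Cfsg.Lie.star4, Cfsg.Lie.pairOf] <;>
      (first | exact CharTwo.add_self_eq_zero (R := F) _ | exact CharTwo.neg_eq (R := F) _)

end

lemma ex_card_gt {F : Type u} [Field F] [Fintype F] (hcard : Fintype.card F = 8) :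
    ∃ c : F, c ≠ 0 ∧ c ≠ 1 := by
  classical
  by_contra hcon
  push Not at hcon
  have hsub : (Finset.univ : Finset F) ⊆ {0, 1} := by
    intro x _
    by_cases hx : x = 0
    · simp [hx]
    · simp [hcon x hx]
  have h1 : Fintype.card F ≤ 2 := by
    calc Fintype.card F = (Finset.univ : Finset F).card := Finset.card_univ.symm
      _ ≤ ({0, 1} : Finset F).card := Finset.card_le_card hsub
      _ ≤ 2 := Finset.card_le_two
  omega

/-- [EX] -/
theorem pkgEx : PkgEx.{u} := by
  intro hCls F _ _ _ hcard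
  have h2 : (2 : F) = 0 := ex_two
  have hpow : ∀ b : F, b ^ 8 = b := by
    intro b
    have h := FiniteField.pow_card b
    rwa [hcard] at h
  obtain ⟨a, ha⟩ : ∃ a : F, a ^ 3 = a + 1 := by
    obtain ⟨c, hc0, hc1⟩ := ex_card_gt hcard
    have h8 := hpow c
    have hfac : c * (c + 1) * (c ^ 3 + c + 1) * (c ^ 3 + c ^ 2 + 1) = 0 := by
      linear_combination h8 + (c + c ^ 7 + c ^ 6 + 2 * c ^ 5 + 2 * c ^ 4 + c ^ 3 + c ^ 2) * h2
    have hc1' : c + 1 ≠ 0 := by
      intro h
      apply hc1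
      linear_combination h - h2
    rcases mul_eq_zero.1 hfac with h | h
    · rcases mul_eq_zero.1 h with h | h
      · rcases mul_eq_zero.1 h with h | h
        · exact absurd h hc0
        · exact absurd h hc1'
      · exact ⟨c, by linear_combination h - (c + 1) * h2⟩
    · exact ⟨c + 1, by linear_combination h + (c ^ 2 + c - 1) * h2⟩
  have ha0 : a ≠ 0 := by
    intro h
    rw [h] at ha
    norm_num at ha
  have ha1 : a ≠ 1 := by
    intro h
    rw [h] at ha
    have : (1 : F) = 0 := by linear_combination (-1 : F) * ha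
    exact one_ne_zero this
  have hc3 : (a + 1) ^ 3 = (a + 1) ^ 2 + 1 := by
    linear_combination ha + (a ^ 2 + a) * h2
  have hPJ : Pred (J4 F) := ex_predJ
  have hP1 : Pred (N (1 : F)) := ex_predN 1 (hpow 1)
  have hPa : Pred (N a) := ex_predN a (hpow a)
  have hPc : Pred (N (a + 1)) := ex_predN (a + 1) (hpow _)
  have hsJ : sqm F (J4 F) = J4 F := by
    ext i j
    fin_cases i <;> fin_cases j <;> simp [sqm, J4]
  have hs1 : sqm F (N (1 : F)) = N 1 := by
    ext i j
    fin_cases i <;> fin_cases j <;> simp [sqm, N]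
  have hfix1 : N (1 : F) * J4 F * (sqm F (N (1 : F)))ᵀ = J4 F := by
    rw [hs1]
    ext i j
    fin_cases i <;> fin_cases j <;>
      simp [N, J4, Matrix.mul_apply, Fin.sum_univ_four] <;>
      exact CharTwo.add_self_eq_zero (R := F) 1
  have hfixa : N a * X7 a * (sqm F (N a))ᵀ = X7 a := by
    ext i j
    fin_cases i <;> fin_cases j <;>
      simp [N, X7, sqm, Matrix.mul_apply, Fin.sum_univ_four] <;>
      (first
        | (linear_combination (8 + 5 * a + 4 * a ^ 2 + 3 * a ^ 3 + 2 * a ^ 4 + a ^ 5 + a ^ 6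
            + a ^ 7) * ha + (4 + 7 * a + 5 * a ^ 2) * h2)
        | (linear_combination (2 + 2 * a) * ha + (1 + 2 * a + a ^ 2) * h2)
        | (linear_combination (6 + 4 * a + 3 * a ^ 2 + 2 * a ^ 3 + a ^ 4 + 2 * a ^ 5 + a ^ 7) * ha
            + (3 + 5 * a + 4 * a ^ 2) * h2)
        | (linear_combination a * ha + (a + a ^ 2) * h2))
  have hX7 : X7 a ≠ 0 := by
    intro h
    have h' := congrFun (congrFun h 0) 2
    simp [X7] at h'
  have hJ0 : J4 F ≠ 0 := by
    intro h
    have h' := congrFun (congrFun h 0) 3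
    simp [J4] at h'
  have hJJ : J4 F * J4 F = 1 := by
    ext i j
    fin_cases i <;> fin_cases j <;>
      simp [J4, Matrix.mul_apply, Fin.sum_univ_four, Matrix.one_apply]
  have hJ1 : J4 F ≠ 1 := by
    intro h
    have h' := congrFun (congrFun h 0) 0
    simp [J4] at h'
  have hNne : ∀ b : F, N b ≠ 1 := by
    intro b h
    have h' := congrFun (congrFun h 1) 1
    simp [N] at h'
  have tr_N : ∀ b : F, (N b).trace = b ^ 4 := by
    intro b
    simp [Matrix.trace, Fin.sum_univ_four, N]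
  have h15 : N (1 : F) ^ 5 = 1 := by
    rcases hCls hcard _ hP1 with ⟨ht, -⟩ | ⟨-, h⟩ | ⟨ht, -⟩ | ⟨ht, -⟩
    · exfalso
      rw [tr_N] at ht
      simp at ht
    · exact h
    · exfalso
      rw [tr_N] at ht
      have : (1 : F) = 0 := by linear_combination (-1 : F) * ht
      exact one_ne_zero this
    · exfalso
      rw [tr_N] at ht
      have : (1 : F) = 0 := by linear_combination (-1 : F) * ht
      exact one_ne_zero this
  -- the trace of `N a`
  have hτ0 : a ^ 4 ≠ 0 := pow_ne_zero 4 ha0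
  have hτ1 : a ^ 4 ≠ 1 := by
    intro h
    apply ha1
    have h8 := hpow a
    calc a = a ^ 8 := h8.symm
      _ = (a ^ 4) ^ 2 := by ring
      _ = 1 := by rw [h, one_pow]
  have hτ : (a ^ 4) ^ 3 = a ^ 4 + 1 := by
    linear_combination ((a ^ 3) ^ 3 + (a ^ 3) ^ 2 * (a + 1) + a ^ 3 * (a + 1) ^ 2 + (a + 1) ^ 3) * ha
      + (2 * a ^ 3 + 3 * a ^ 2 + 2 * a) * h2
  have ha7 : N a ^ 7 = 1 := by
    rcases hCls hcard _ hPa with ⟨ht, -⟩ | ⟨ht, -⟩ | ⟨-, h⟩ | ⟨ht, -⟩
    · exfalso
      rw [tr_N] at ht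
      exact hτ0 ht
    · exfalso
      rw [tr_N] at ht
      exact hτ1 ht
    · exact h
    · exfalso
      rw [tr_N] at ht
      have h0 : a ^ 4 * (a ^ 4 - 1) = 0 := by linear_combination hτ - ht
      rcases mul_eq_zero.1 h0 with h | h
      · exact hτ0 h
      · exact hτ1 (sub_eq_zero.1 h)
  -- the trace of `N (a + 1)`
  have hc0 : a + 1 ≠ 0 := by
    intro h
    apply ha1
    linear_combination h - h2
  have hc1 : a + 1 ≠ 1 := by
    intro h
    apply ha0
    linear_combination h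
  have hσ0 : (a + 1) ^ 4 ≠ 0 := pow_ne_zero 4 hc0
  have hσ1 : (a + 1) ^ 4 ≠ 1 := by
    intro h
    apply hc1
    have h8 := hpow (a + 1)
    calc a + 1 = (a + 1) ^ 8 := h8.symm
      _ = ((a + 1) ^ 4) ^ 2 := by ring
      _ = 1 := by rw [h, one_pow]
  have hσ : ((a + 1) ^ 4) ^ 3 = ((a + 1) ^ 4) ^ 2 + 1 := by
    linear_combination (((a + 1) ^ 3) ^ 3 + ((a + 1) ^ 3) ^ 2 * ((a + 1) ^ 2 + 1)
        + (a + 1) ^ 3 * ((a + 1) ^ 2 + 1) ^ 2 + ((a + 1) ^ 2 + 1) ^ 3) * hc3
      + (2 * (a + 1) ^ 6 + 3 * (a + 1) ^ 4 + 2 * (a + 1) ^ 2) * h2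
  have hc13 : N (a + 1) ^ 13 = 1 := by
    rcases hCls hcard _ hPc with ⟨ht, -⟩ | ⟨ht, -⟩ | ⟨ht, -⟩ | ⟨-, h⟩
    · exfalso
      rw [tr_N] at ht
      exact hσ0 ht
    · exfalso
      rw [tr_N] at ht
      exact hσ1 ht
    · exfalso
      rw [tr_N] at ht
      have h0 : (a + 1) ^ 4 * ((a + 1) ^ 4 - 1) = 0 := by linear_combination ht - hσ
      rcases mul_eq_zero.1 h0 with h | h
      · exact hσ0 h
      · exact hσ1 (sub_eq_zero.1 h)
    · exact h
  exact ⟨a, ha, hPJ, hP1, hPa, hPc, hsJ, hs1, hfix1, hfixa, hX7, hJ0, hJJ, hJ1, h15, hNne 1, ha7,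
    hNne a, hc13, hNne (a + 1)⟩

end Cfsg.Agent.Lib.Helper63.PG63
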